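import Groth.Agent.Coherent.K585.Defs
import Groth.Agent.Ega1.SuppTensorMod
import Groth.Agent.Dcoh.MonPull292
import Groth.Agent.VarietyB.HHPush
import Groth.Agent.CurvesA.HHMap
import Groth.Agent.FormalA.PullbackQC
import Groth.Agent.Ega2.TensGen
import Groth.Agent.Ega3B.ProjTwist
import Groth.Agent.Fdesc.LocGenPullback
import Groth.Agent.Fga.TensorList
import Groth.Agent.Picfga.HilbPull
import Groth.Agent.FormalA.Support
import Groth.Agent.PerfA.QCohSerre
import Groth.Agent.CohqB.FiniteType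
import Mathlib.Analysis.Complex.Basic

/-!
# Transport of semistable families along isomorphisms (Simpson moduli, nodes TRANS and TRANS2)

* `ssh_iso`: the condition `K585.Defs.SSh` is invariant under isomorphism of all the data;
* `adm_iff`: the condition of the statements S14971, S14975, S15264 is `K585.Defs.Adm` (with `g₀ = i ≫ prZ n S`).
-/

set_option autoImplicit false

universe u

open CategoryTheory CategoryTheory.Limits AlgebraicGeometry MvPolynomial

namespace K639.Trans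

open Groth.Agent Fga.QTDefs Fga.QT8 Fga.QT4b Fga.QT6a Fga.QT6c Fga.QA0 K585.KronK K585.Defs
open scoped Groth.Agent.Dcoh.MonCat

section Basic

variable {X Y : Scheme.{u}}

lemma isEquivalence_pushforward (f : X ⟶ Y) [IsIso f] :
    (Scheme.Modules.pushforward f).IsEquivalence := by
  let e : X.Modules ≌ Y.Modules :=
    CategoryTheory.Equivalence.mk (Scheme.Modules.pushforward f) (Scheme.Modules.pushforward (inv f))
      ((Scheme.Modules.pushforwardId X).symm ≪≫
        Scheme.Modules.pushforwardCongr (IsIso.hom_inv_id f).symm ≪≫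
        (Scheme.Modules.pushforwardComp f (inv f)).symm)
      ((Scheme.Modules.pushforwardComp (inv f) f) ≪≫
        Scheme.Modules.pushforwardCongr (IsIso.inv_hom_id f) ≪≫ Scheme.Modules.pushforwardId Y)
  exact inferInstanceAs e.functor.IsEquivalence

lemma isEquivalence_pullback (f : X ⟶ Y) [IsIso f] : (Scheme.Modules.pullback f).IsEquivalence :=
  have := isEquivalence_pushforward f
  (Scheme.Modules.pullbackPushforwardAdjunction f).isEquivalence_left_of_isEquivalence_right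

lemma isIso_unit (f : X ⟶ Y) [IsIso f] (M : Y.Modules) :
    IsIso ((Scheme.Modules.pullbackPushforwardAdjunction f).unit.app M) := by
  have := isEquivalence_pushforward f
  have := isEquivalence_pullback f
  infer_instance

/-- Pullback of a tensor product. -/
noncomputable def pullTens (f : X ⟶ Y) (A B : Y.Modules) :
    CohB1.tensorMod ((Scheme.Modules.pullback f).obj A) ((Scheme.Modules.pullback f).obj B) ≅
      (Scheme.Modules.pullback f).obj (CohB1.tensorMod A B) :=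
  letI := Dcoh.MonPull.monPull f
  Functor.Monoidal.μIso (Scheme.Modules.pullback f) A B

variable {k : Type u} [Field k]

theorem euler_iso {q : Y ⟶ Spec (CommRingCat.of k)} {q' : X ⟶ Spec (CommRingCat.of k)} (f : X ⟶ Y) [IsIso f]
    (hf : f ≫ q = q') (M : Y.Modules) (hM : Coh.IsQCoh M) :
    @Curv2.euler k _ X ⟨q'⟩ ((Scheme.Modules.pullback f).obj M) = @Curv2.euler k _ Y ⟨q⟩ M := by
  let _ : X.Over (Spec (CommRingCat.of k)) := ⟨q'⟩
  let _ : Y.Over (Spec (CommRingCat.of k)) := ⟨q⟩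
  have := isIso_unit f M
  have e := (asIso ((Scheme.Modules.pullbackPushforwardAdjunction f).unit.app M)).symm
  unfold Curv2.euler
  refine finsum_congr fun i => ?_
  rw [← VarietyB.HHPush.finrank_HH_push f k hf _ (FormalA.PullbackQC.isQCoh_pullback f _ hM) i]
  exact congrArg (fun z : ℕ => (-1 : ℤ) ^ i * (z : ℤ)) (CurvesA.HHMap.equivOver k e i).finrank_eq

theorem euler_congr (q : X ⟶ Spec (CommRingCat.of k)) {M N : X.Modules} (e : M ≅ N) :
    @Curv2.euler k _ X ⟨q⟩ M = @Curv2.euler k _ X ⟨q⟩ N := by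
  let _ : X.Over (Spec (CommRingCat.of k)) := ⟨q⟩
  unfold Curv2.euler
  exact finsum_congr fun i =>
    congrArg (fun z : ℕ => (-1 : ℤ) ^ i * (z : ℤ)) (CurvesA.HHMap.equivOver k e i).finrank_eq

theorem isCoh_of_iso {M N : X.Modules} (e : M ≅ N) (hM : Coh.IsCoh M) : Coh.IsCoh N :=
  ⟨PerfA.QCohSerre.isQCoh_of_iso e hM.1, CohqB.FiniteType.IsFT.of_epi hM.2 e.hom⟩

theorem dim_preimage (f : X ⟶ Y) [IsIso f] (Z : Set Y) :
    topologicalKrullDim ↥(f ⁻¹' Z) = topologicalKrullDim ↥Z := by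
  have h := (Scheme.homeoOfIso (asIso f)).sets (s := f ⁻¹' Z) (t := Z) rfl
  exact IsHomeomorph.topologicalKrullDim_eq _ h.isHomeomorph

theorem dim_support_iso (f : X ⟶ Y) [IsIso f] {M : X.Modules} {N : Y.Modules} (hN : Coh.IsCoh N)
    (e : M ≅ (Scheme.Modules.pullback f).obj N) :
    topologicalKrullDim ↥(CohB1.support M) = topologicalKrullDim ↥(CohB1.support N) := by
  rw [FormalA.Support.support_eq_of_iso e, Ega1.SuppTensorMod.isFT_pullback_support f N hN.2]
  exact dim_preimage f _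

/-- The numerical conditions in `SSh`, with respect to a family of twists. -/
structure NC (k : Type u) [Field k] {Y : Scheme.{u}} (q : Y ⟶ Spec (CommRingCat.of k)) (L : ℤ → Y.Modules)
    (P : Polynomial ℚ) (E : Y.Modules) : Prop where
  hp : ∀ m : ℤ, (@Curv2.euler k _ Y ⟨q⟩ (CohB1.tensorMod E (L m)) : ℚ) = P.eval (m : ℚ)
  dim : topologicalKrullDim ↥(CohB1.support E) = (P.natDegree : WithBot ℕ∞)
  sub : ∀ (G : Y.Modules) (ι : G ⟶ E), Mono ι → Coh.IsCoh G → ¬ IsZero G →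
    topologicalKrullDim ↥(CohB1.support G) = (P.natDegree : WithBot ℕ∞) ∧
    ∀ ψ : Polynomial ℚ, (∀ m : ℤ, (@Curv2.euler k _ Y ⟨q⟩ (CohB1.tensorMod G (L m)) : ℚ) = ψ.eval (m : ℚ)) →
      W4c2simpsonmod1.RedLE P.natDegree ψ P

theorem euler_tens {q : Y ⟶ Spec (CommRingCat.of k)} {q' : X ⟶ Spec (CommRingCat.of k)} (θ : X ⟶ Y) [IsIso θ]
    (hθ : θ ≫ q = q') {L : Y.Modules} {L' : X.Modules} (hL : PicF.IsInvertible L)
    (eL : L' ≅ (Scheme.Modules.pullback θ).obj L) {G : Y.Modules} {G' : X.Modules} (hG : Coh.IsCoh G)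
    (e : G' ≅ (Scheme.Modules.pullback θ).obj G) :
    @Curv2.euler k _ X ⟨q'⟩ (CohB1.tensorMod G' L') = @Curv2.euler k _ Y ⟨q⟩ (CohB1.tensorMod G L) := by
  rw [← euler_iso θ hθ _ (Ega2.TensGen.isQCoh_tensor hG.1 hL)]
  exact euler_congr q' (Fga.TensorList.tensorModCongr e eL ≪≫ pullTens θ G L)

/-- `pullback (inv θ) ∘ pullback θ` is the identity. -/
noncomputable def invPull (θ : X ⟶ Y) [IsIso θ] (E : Y.Modules) :
    (Scheme.Modules.pullback (inv θ)).obj ((Scheme.Modules.pullback θ).obj E) ≅ E :=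
  (Scheme.Modules.pullbackComp (inv θ) θ).app E ≪≫
    (Scheme.Modules.pullbackCongr (IsIso.inv_hom_id θ)).app E ≪≫ (Scheme.Modules.pullbackId Y).app E

/-- `pullback θ ∘ pullback (inv θ)` is the identity. -/
noncomputable def pullInv (θ : X ⟶ Y) [IsIso θ] (E : X.Modules) :
    (Scheme.Modules.pullback θ).obj ((Scheme.Modules.pullback (inv θ)).obj E) ≅ E :=
  (Scheme.Modules.pullbackComp θ (inv θ)).app E ≪≫
    (Scheme.Modules.pullbackCongr (IsIso.hom_inv_id θ)).app E ≪≫ (Scheme.Modules.pullbackId X).app E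

/-- Transport of the numerical conditions along an isomorphism. -/
theorem NC.trans {q : Y ⟶ Spec (CommRingCat.of k)} {q' : X ⟶ Spec (CommRingCat.of k)} (θ : X ⟶ Y) [IsIso θ]
    (hθ : θ ≫ q = q') {L : ℤ → Y.Modules} {L' : ℤ → X.Modules} (hL : ∀ m, PicF.IsInvertible (L m))
    (eL : ∀ m, Nonempty (L' m ≅ (Scheme.Modules.pullback θ).obj (L m))) {P : Polynomial ℚ} {E : Y.Modules}
    {E' : X.Modules} (hE : Coh.IsCoh E) (e : E' ≅ (Scheme.Modules.pullback θ).obj E) (h : NC k q L P E) :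
    NC k q' L' P E' := by
  refine ⟨fun m => ?_, ?_, fun G' ι' hι hG' h0 => ?_⟩
  · rw [euler_tens θ hθ (hL m) (eL m).some hE e]
    exact h.hp m
  · rw [dim_support_iso θ hE e]
    exact h.dim
  · have hq1 := isEquivalence_pullback (inv θ)
    let c := invPull θ E
    let d := (pullInv θ G').symm
    have hG : Coh.IsCoh ((Scheme.Modules.pullback (inv θ)).obj G') :=
      FormalA.PullbackQC.isCoh_pullback (inv θ) _ hG'
    have hm : Mono ((Scheme.Modules.pullback (inv θ)).map (ι' ≫ e.hom) ≫ c.hom) := by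
      have : Mono ((Scheme.Modules.pullback (inv θ)).map (ι' ≫ e.hom)) := inferInstance
      infer_instance
    have hz : ¬ IsZero ((Scheme.Modules.pullback (inv θ)).obj G') := fun hz =>
      h0 ((((Scheme.Modules.pullback θ).map_isZero hz)).of_iso d)
    obtain ⟨h1, h2⟩ := h.sub _ _ hm hG hz
    refine ⟨?_, fun ψ hψ => h2 ψ fun m => ?_⟩
    · rw [dim_support_iso θ hG d]
      exact h1
    · rw [← hψ m, euler_tens θ hθ (hL m) (eL m).some hG d]

/-- The numerical conditions are invariant under isomorphism of all the data. -/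
theorem NC.iff {q : Y ⟶ Spec (CommRingCat.of k)} {q' : X ⟶ Spec (CommRingCat.of k)} (θ : X ⟶ Y) [IsIso θ]
    (hθ : θ ≫ q = q') {L : ℤ → Y.Modules} {L' : ℤ → X.Modules} (hL : ∀ m, PicF.IsInvertible (L m))
    (hL' : ∀ m, PicF.IsInvertible (L' m))
    (eL : ∀ m, Nonempty (L' m ≅ (Scheme.Modules.pullback θ).obj (L m))) {P : Polynomial ℚ} {E : Y.Modules}
    {E' : X.Modules} (hE : Coh.IsCoh E) (e : E' ≅ (Scheme.Modules.pullback θ).obj E) :
    NC k q L P E ↔ NC k q' L' P E' := by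
  refine ⟨NC.trans θ hθ hL eL hE e, NC.trans (inv θ) (by rw [← hθ, IsIso.inv_hom_id_assoc]) hL' (fun m => ?_)
    (isCoh_of_iso e.symm (FormalA.PullbackQC.isCoh_pullback θ _ hE))
    ((Scheme.Modules.pullback (inv θ)).mapIso e ≪≫ invPull θ E).symm⟩
  exact ⟨((Scheme.Modules.pullback (inv θ)).mapIso (eL m).some ≪≫ invPull θ (L m)).symm⟩

theorem isInvertible_tw {n : ℕ} (g : Y ⟶ PZ n) (m : ℤ) :
    PicF.IsInvertible ((Scheme.Modules.pullback g).obj (Twist.twistProjSpace n (ULift.{u} ℤ) m)) :=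
  Fdesc.LocGen.isInvertible_pullback g (Ega3B.ProjTwist.isInvertible_twistProjSpace n _ m)

theorem ssh_iff_nc {n : ℕ} [Y.Over (Spec (CommRingCat.of k))] (g : Y ⟶ PZ n) (P : Polynomial ℚ) (E : Y.Modules) :
    SSh k g P E ↔ Coh.IsCoh E ∧ NC k (Y ↘ Spec (CommRingCat.of k))
      (fun m => (Scheme.Modules.pullback g).obj (Twist.twistProjSpace n (ULift.{u} ℤ) m)) P E :=
  ⟨fun h => ⟨h.coh, h.hp, h.dim, h.sub⟩, fun h => ⟨h.1, h.2.hp, h.2.dim, h.2.sub⟩⟩

end Basic

/-- NODE TRANS2. `SSh` is invariant under isomorphism of all the data. -/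
theorem ssh_iso {k : Type u} [Field k] {Y Y' : Scheme.{u}} [Y.Over (Spec (CommRingCat.of k))]
    [Y'.Over (Spec (CommRingCat.of k))] (θ : Y' ⟶ Y) [IsIso θ]
    (hθ : θ ≫ (Y ↘ Spec (CommRingCat.of k)) = Y' ↘ Spec (CommRingCat.of k)) {n : ℕ} (g : Y ⟶ PZ n) (g' : Y' ⟶ PZ n)
    (hg : θ ≫ g = g') {P : Polynomial ℚ} {E : Y.Modules} {E' : Y'.Modules}
    (e : E' ≅ (Scheme.Modules.pullback θ).obj E) (h : SSh k g P E) : SSh k g' P E' := by
  subst hg
  rw [ssh_iff_nc] at h ⊢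
  refine ⟨?_, h.2.trans θ hθ (isInvertible_tw g) (fun m => ⟨((Scheme.Modules.pullbackComp θ g).app _).symm⟩) h.1 e⟩
  exact isCoh_of_iso e.symm (FormalA.PullbackQC.isCoh_pullback θ _ h.1)

section Fibre

variable {S X : Scheme.{u}} {n : ℕ} {k : Type u} [Field k] (i : X ⟶ CohB1.ProjSpaceOver n S) (f : X ⟶ S) (T : Over S)
  (t : Spec (CommRingCat.of k) ⟶ T.left)

/-- The comparison between the two fibres of `X_T` at `t`. -/
noncomputable def cmp : PicF.XT f (Over.mk (t ≫ T.hom)) ≅ pullback (PicF.XTproj f T) t :=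
  (Picfga.HilbPull.isPullback_XTmap f (Over.homMk t rfl : Over.mk (t ≫ T.hom) ⟶ T)).isoPullback

lemma cmp_fst : (cmp f T t).hom ≫ pullback.fst (PicF.XTproj f T) t =
    PicF.XTmap f (Over.homMk t rfl : Over.mk (t ≫ T.hom) ⟶ T) :=
  (Picfga.HilbPull.isPullback_XTmap f (Over.homMk t rfl : Over.mk (t ≫ T.hom) ⟶ T)).isoPullback_hom_fst

lemma cmp_snd : (cmp f T t).hom ≫ pullback.snd (PicF.XTproj f T) t = PicF.XTproj f (Over.mk (t ≫ T.hom)) :=
  (Picfga.HilbPull.isPullback_XTmap f (Over.homMk t rfl : Over.mk (t ≫ T.hom) ⟶ T)).isoPullback_hom_snd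

/-- A twofold pullback. -/
noncomputable def pull2 {A B C : Scheme.{u}} {a : A ⟶ B} {b : B ⟶ C} {c : A ⟶ C} (h : a ≫ b = c) (M : C.Modules) :
    (Scheme.Modules.pullback c).obj M ≅ (Scheme.Modules.pullback a).obj ((Scheme.Modules.pullback b).obj M) :=
  ((Scheme.Modules.pullbackComp a b).app M ≪≫ (Scheme.Modules.pullbackCongr h).app M).symm

theorem ssh_fib_iff (P : Polynomial ℚ) (E : (PicF.XT f T).Modules) (hE : Coh.IsCoh E) :
    (letI := ovr f (t ≫ T.hom);
      SSh k (gT f (i ≫ prZ n S) (Over.mk (t ≫ T.hom))) P (fib f t E)) ↔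
    NC k (pullback.snd (PicF.XTproj f T) t)
      (fun m => (Scheme.Modules.pullback (pullback.fst (PicF.XTproj f T) t ≫ pullback.fst f T.hom ≫ i)).obj
        (Twist.twistOver n S m)) P ((Scheme.Modules.pullback (pullback.fst (PicF.XTproj f T) t)).obj E) := by
  let _ := ovr f (t ≫ T.hom)
  have h1 : Coh.IsCoh ((Scheme.Modules.pullback (pullback.fst (PicF.XTproj f T) t)).obj E) :=
    FormalA.PullbackQC.isCoh_pullback _ _ hE
  have h2 : Coh.IsCoh (fib f t E) := FormalA.PullbackQC.isCoh_pullback _ _ hE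
  have h3 : ∀ m, PicF.IsInvertible ((Scheme.Modules.pullback (pullback.fst (PicF.XTproj f T) t ≫
      pullback.fst f T.hom ≫ i)).obj (Twist.twistOver n S m)) := fun m =>
    Fdesc.LocGen.isInvertible_pullback _ (isInvertible_tw (prZ n S) m)
  rw [ssh_iff_nc, and_iff_right h2]
  refine (NC.iff (cmp f T t).hom (cmp_snd f T t) h3 (isInvertible_tw _) (fun m => ⟨?_⟩) h1
    (pull2 (cmp_fst f T t) E)).symm
  refine pull2 (b := (pullback.fst (PicF.XTproj f T) t ≫ pullback.fst f T.hom ≫ i) ≫ prZ n S) ?_ _ ≪≫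
    (Scheme.Modules.pullback _).mapIso (pull2 rfl _)
  rw [gT]
  simp only [← Category.assoc]
  rw [cmp_fst, FGA.XTmap_fst]

end Fibre

/-- NODE TRANS. The condition of the frozen statements is `Adm` (with `g₀ = i ≫ fst`); transport along the isomorphism of
`pullback (XTproj f T) t` with `XT f (t ≫ T.hom)`. -/
theorem adm_iff {S : Scheme.{0}} (sS : S ⟶ Spec (CommRingCat.of ℂ)) (n : ℕ) (X : Scheme.{0})
    (i : X ⟶ CohB1.ProjSpaceOver n S) [IsClosedImmersion i] (P : Polynomial ℚ) (T : Over S)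
    (E : (PicF.XT (i ≫ (CohB1.ProjSpaceOver n S ↘ S)) T).Modules) (hE : Coh.IsCoh E)
    (hfl : FlatMod.IsFlatOver (PicF.XTproj (i ≫ (CohB1.ProjSpaceOver n S ↘ S)) T) E) :
    (∀ (t : Spec (CommRingCat.of ℂ) ⟶ T.left), t ≫ T.hom ≫ sS = 𝟙 (Spec (CommRingCat.of ℂ)) →
        (∀ m : ℤ, (@Curv2.euler ℂ _ (pullback (PicF.XTproj (i ≫ (CohB1.ProjSpaceOver n S ↘ S)) T) t) ⟨pullback.snd (PicF.XTproj (i ≫ (CohB1.ProjSpaceOver n S ↘ S)) T) t⟩ (CohB1.tensorMod ((Scheme.Modules.pullback (pullback.fst (PicF.XTproj (i ≫ (CohB1.ProjSpaceOver n S ↘ S)) T) t)).obj E) ((Scheme.Modules.pullback (pullback.fst (PicF.XTproj (i ≫ (CohB1.ProjSpaceOver n S ↘ S)) T) t ≫ pullback.fst (i ≫ (CohB1.ProjSpaceOver n S ↘ S)) T.hom ≫ i)).obj (Twist.twistOver n S m))) : ℚ) = P.eval (m : ℚ)) ∧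
        topologicalKrullDim ↥(CohB1.support ((Scheme.Modules.pullback (pullback.fst (PicF.XTproj (i ≫ (CohB1.ProjSpaceOver n S ↘ S)) T) t)).obj E)) = (P.natDegree : WithBot ℕ∞) ∧
        ∀ (G : (pullback (PicF.XTproj (i ≫ (CohB1.ProjSpaceOver n S ↘ S)) T) t).Modules) (ι : G ⟶ ((Scheme.Modules.pullback (pullback.fst (PicF.XTproj (i ≫ (CohB1.ProjSpaceOver n S ↘ S)) T) t)).obj E)), Mono ι → Coh.IsCoh G → ¬ IsZero G →
          topologicalKrullDim ↥(CohB1.support G) = (P.natDegree : WithBot ℕ∞) ∧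
          ∀ ψ : Polynomial ℚ, (∀ m : ℤ, (@Curv2.euler ℂ _ (pullback (PicF.XTproj (i ≫ (CohB1.ProjSpaceOver n S ↘ S)) T) t) ⟨pullback.snd (PicF.XTproj (i ≫ (CohB1.ProjSpaceOver n S ↘ S)) T) t⟩ (CohB1.tensorMod G ((Scheme.Modules.pullback (pullback.fst (PicF.XTproj (i ≫ (CohB1.ProjSpaceOver n S ↘ S)) T) t ≫ pullback.fst (i ≫ (CohB1.ProjSpaceOver n S ↘ S)) T.hom ≫ i)).obj (Twist.twistOver n S m))) : ℚ) = ψ.eval (m : ℚ)) →
            W4c2simpsonmod1.RedLE P.natDegree ψ P) ↔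
      Adm (i ≫ (CohB1.ProjSpaceOver n S ↘ S)) sS (i ≫ prZ n S) P T E := by
  constructor
  · intro h
    refine ⟨hE, hfl, fun t ht => ?_⟩
    rw [ssh_fib_iff i _ T t P E hE]
    obtain ⟨h1, h2, h3⟩ := h t ht
    exact ⟨h1, h2, h3⟩
  · intro h t ht
    have h4 := (ssh_fib_iff i _ T t P E hE).1 (h.ssh t ht)
    exact ⟨h4.hp, h4.dim, h4.sub⟩

end K639.Trans
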